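import Groth.Prelude.Def_RelProj
import Mathlib.AlgebraicGeometry.Morphisms.ClosedImmersion

set_option autoImplicit false
universe u
open CategoryTheory CategoryTheory.Limits AlgebraicGeometry

namespace Groth.Agent.HProjLib

lemma exists_bcIso (n : ℕ) {S S' : Scheme.{u}} (g : S' ⟶ S) :
    ∃ e : pullback (CohB1.ProjSpaceOver.toBase n S) g ≅ CohB1.ProjSpaceOver n S',
      e.hom ≫ CohB1.ProjSpaceOver.toBase n S' = pullback.snd _ _ := by
  delta CohB1.ProjSpaceOver.toBase CohB1.ProjSpaceOver
  refine ⟨pullbackLeftPullbackSndIso _ _ g ≪≫ pullback.congrHom rfl (specULiftZIsTerminal.hom_ext _ _), ?_⟩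
  simp [pullback.congrHom, pullback.map]
  erw [pullback.lift_snd]
  exact pullbackLeftPullbackSndIso_hom_snd _ _ g

lemma baseChange {X S S' : Scheme.{u}} (f : X ⟶ S) (hf : RelProj.IsHProjective f)
    (g : S' ⟶ S) : RelProj.IsHProjective (pullback.snd f g) := by
  obtain ⟨n, i, hi, rfl⟩ := hf
  obtain ⟨e, he⟩ := exists_bcIso n g
  refine ⟨n, pullback.map _ g _ g i (𝟙 _) (𝟙 _) (by simp) (by simp) ≫ e.hom, ?_, ?_⟩
  · haveI : IsClosedImmersion i := hi
    have : IsClosedImmersion (pullback.map (i ≫ CohB1.ProjSpaceOver.toBase n S) g (CohB1.ProjSpaceOver.toBase n S) g i (𝟙 _) (𝟙 _) (by simp) (by simp)) := by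
      have h : pullback.map (i ≫ CohB1.ProjSpaceOver.toBase n S) g (CohB1.ProjSpaceOver.toBase n S) g i (𝟙 _) (𝟙 _) (by simp) (by simp) =
          (pullbackRightPullbackFstIso (CohB1.ProjSpaceOver.toBase n S) g i).inv ≫ pullback.snd i _ := by
        apply pullback.hom_ext <;> simp [pullback.map, pullback.condition] <;> first | exact pullback.lift_fst _ _ _ | exact pullback.lift_snd _ _ _
      rw [h]; infer_instance
    infer_instance
  · simp [he, pullback.map]
    exact pullback.lift_snd _ _ _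

lemma isClosedImmersion_map_snd {P Y Q S : Scheme.{u}} (p : P ⟶ S) (j : Y ⟶ Q) (q : Q ⟶ S) [IsClosedImmersion j] :
    IsClosedImmersion (pullback.map p (j ≫ q) p q (𝟙 _) j (𝟙 _) (by simp) (by simp)) := by
  have h : pullback.map p (j ≫ q) p q (𝟙 _) j (𝟙 _) (by simp) (by simp) =
      (pullbackLeftPullbackSndIso p q j).inv ≫ pullback.fst _ _ := by
    apply pullback.hom_ext <;> simp [pullback.map, pullback.condition] <;> first | exact pullback.lift_fst _ _ _ | exact pullback.lift_snd _ _ _
  rw [h]; infer_instance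

end Groth.Agent.HProjLib
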